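import Mathlib.RingTheory.Ideal.KrullsHeightTheorem
import Mathlib.RingTheory.Jacobson.Ring
import Mathlib.RingTheory.MvPolynomial.Basic
import Mathlib.RingTheory.FiniteType
import Mathlib.FieldTheory.IsAlgClosed.Basic
import Mathlib.LinearAlgebra.FiniteDimensional.Basic

/-!
# Hopf's inequality for bilinear maps without zero divisors over an algebraically closed field
-/

set_option autoImplicit false

universe u v w z

namespace Groth.Agent.HopfBilin

variable {k : Type u} [Field k]

section Segre

variable (k) (a b : ℕ)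

/-- The products `x_i y_j`. -/
noncomputable def gen (p : Fin a × Fin b) : MvPolynomial (Fin a ⊕ Fin b) k :=
  MvPolynomial.X (Sum.inl p.1) * MvPolynomial.X (Sum.inr p.2)

/-- The coordinate ring of the cone over the Segre variety. -/
noncomputable abbrev segre : Subalgebra k (MvPolynomial (Fin a ⊕ Fin b) k) :=
  Algebra.adjoin k (Set.range (gen k a b))

noncomputable def gen' (p : Fin a × Fin b) : segre k a b :=
  ⟨gen k a b p, Algebra.subset_adjoin ⟨p, rfl⟩⟩

/-- The position of a variable in the chain. -/
def pos : Fin a ⊕ Fin b → ℕ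
  | .inl i => if i.1 + 1 = a then a + b - 2 else i.1
  | .inr j => if j.1 + 1 = b then a + b - 2 else (a - 1) + j.1

/-- Kill the variables of position `< n`. -/
noncomputable def killHom (n : ℕ) : MvPolynomial (Fin a ⊕ Fin b) k →ₐ[k] MvPolynomial (Fin a ⊕ Fin b) k :=
  MvPolynomial.aeval fun v => if pos a b v < n then 0 else MvPolynomial.X v

noncomputable def chainPrime (n : ℕ) : PrimeSpectrum (segre k a b) :=
  ⟨RingHom.ker ((killHom k a b n).comp (segre k a b).val).toRingHom, RingHom.ker_isPrime _⟩

theorem killHom_gen (n : ℕ) (p : Fin a × Fin b) :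
    killHom k a b n (gen k a b p) =
      if pos a b (.inl p.1) < n ∨ pos a b (.inr p.2) < n then 0 else gen k a b p := by
  rw [killHom, gen, map_mul, MvPolynomial.aeval_X, MvPolynomial.aeval_X]
  split_ifs <;> first | omega | simp_all

theorem killHom_comp {m n : ℕ} (h : m ≤ n) (f : MvPolynomial (Fin a ⊕ Fin b) k) :
    killHom k a b n (killHom k a b m f) = killHom k a b n f := by
  suffices h' : (killHom k a b n).comp (killHom k a b m) = killHom k a b n from AlgHom.congr_fun h' f
  refine MvPolynomial.algHom_ext fun v => ?_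
  rw [AlgHom.comp_apply, killHom, killHom, MvPolynomial.aeval_X, MvPolynomial.aeval_X]
  by_cases hv : pos a b v < m
  · rw [if_pos hv, map_zero, if_pos (lt_of_lt_of_le hv h)]
  · rw [if_neg hv, MvPolynomial.aeval_X]

theorem gen_ne_zero (p : Fin a × Fin b) : gen k a b p ≠ 0 :=
  mul_ne_zero (MvPolynomial.X_ne_zero _) (MvPolynomial.X_ne_zero _)

theorem chainPrime_lt {n : ℕ} (ha : 0 < a) (hb : 0 < b) (hn : n + 1 < a + b) :
    chainPrime k a b n < chainPrime k a b (n + 1) := by
  have hmem : ∀ m (x : segre k a b), x ∈ (chainPrime k a b m).asIdeal ↔ killHom k a b m x.1 = 0 :=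
    fun m x => Iff.rfl
  refine lt_of_le_of_ne (fun x hx => ?_) fun he => ?_
  · rw [hmem] at hx ⊢
    rw [← killHom_comp k a b (Nat.le_succ n), hx, map_zero]
  · obtain ⟨p, hp1, hp2⟩ : ∃ p : Fin a × Fin b,
        (pos a b (.inl p.1) = n ∨ pos a b (.inr p.2) = n) ∧
          ¬ (pos a b (.inl p.1) < n ∨ pos a b (.inr p.2) < n) := by
      rcases lt_or_ge (n + 1) a with h | h
      · refine ⟨(⟨n, by omega⟩, ⟨b - 1, by omega⟩), ?_, ?_⟩ <;>
          simp only [pos] <;> split_ifs <;> omega
      · rcases lt_or_ge (n + 2) (a + b) with h' | h'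
        · refine ⟨(⟨a - 1, by omega⟩, ⟨n - (a - 1), by omega⟩), ?_, ?_⟩ <;>
            simp only [pos] <;> split_ifs <;> omega
        · refine ⟨(⟨a - 1, by omega⟩, ⟨b - 1, by omega⟩), ?_, ?_⟩ <;>
            simp only [pos] <;> split_ifs <;> omega
    have h1 : gen' k a b p ∈ (chainPrime k a b (n + 1)).asIdeal := by
      rw [hmem]
      refine (killHom_gen k a b _ p).trans (if_pos ?_)
      omega
    rw [← he, hmem] at h1
    exact gen_ne_zero k a b p (((killHom_gen k a b n p).trans (if_neg hp2)).symm.trans h1)

theorem le_height_top (ha : 0 < a) (hb : 0 < b) :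
    ((a + b - 1 : ℕ) : ℕ∞) ≤ (chainPrime k a b (a + b - 1)).asIdeal.height := by
  rw [PrimeSpectrum.height_eq_orderHeight]
  let p : LTSeries (PrimeSpectrum (segre k a b)) :=
    { length := a + b - 1
      toFun := fun i => chainPrime k a b i.1
      step := fun i => by
        show chainPrime k a b i.1 < chainPrime k a b (i.1 + 1)
        exact chainPrime_lt k a b ha hb (by have := i.2; omega) }
  exact Order.length_le_height (p := p) le_rfl

theorem top_eq_of_forall_gen (ha : 0 < a) (hb : 0 < b) {M : Ideal (segre k a b)} (φ : segre k a b →ₐ[k] k) (hM : M = RingHom.ker φ.toRingHom)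
    (h : ∀ p, φ (gen' k a b p) = 0) : M = (chainPrime k a b (a + b - 1)).asIdeal := by
  have hkill : ∀ v, pos a b v < a + b - 1 := by
    rintro (i | j)
    · have := i.2; simp only [pos]; split_ifs <;> omega
    · have := j.2; simp only [pos]; split_ifs <;> omega
  have he : ((killHom k a b (a + b - 1)).comp (segre k a b).val) =
      (Algebra.ofId k (MvPolynomial (Fin a ⊕ Fin b) k)).comp φ := by
    refine AlgHom.adjoin_ext fun x hx => ?_
    obtain ⟨p, rfl⟩ := hx
    refine (killHom_gen k a b _ p).trans ?_
    rw [if_pos (Or.inl (hkill _))]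
    exact ((congrArg (Algebra.ofId k (MvPolynomial (Fin a ⊕ Fin b) k)) (h p)).trans (map_zero _)).symm
  rw [hM]
  ext x
  show φ x = 0 ↔ ((killHom k a b (a + b - 1)).comp (segre k a b).val) x = 0
  rw [he, AlgHom.comp_apply]
  exact ⟨fun h => by rw [h, map_zero], fun h => (map_eq_zero_iff _ (MvPolynomial.C_injective _ _)).1 h⟩

end Segre

/-- A bilinear map without zero divisors has `dim U + dim V ≤ dim W + 1`. -/
theorem finrank_add_le [IsAlgClosed k] {U : Type v} {V : Type w} {W : Type z} [AddCommGroup U] [Module k U]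
    [AddCommGroup V] [Module k V] [AddCommGroup W] [Module k W] [FiniteDimensional k U] [FiniteDimensional k V]
    [FiniteDimensional k W] [Nontrivial U] [Nontrivial V] (β : U →ₗ[k] V →ₗ[k] W)
    (h : ∀ x y, x ≠ 0 → y ≠ 0 → β x y ≠ 0) :
    Module.finrank k U + Module.finrank k V ≤ Module.finrank k W + 1 := by
  classical
  obtain ⟨a, hca⟩ : ∃ a, Module.finrank k U = a := ⟨_, rfl⟩
  obtain ⟨b, hcb⟩ : ∃ b, Module.finrank k V = b := ⟨_, rfl⟩
  let bU := Module.finBasisOfFinrankEq k U hca
  let bV := Module.finBasisOfFinrankEq k V hcb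
  let bW := Module.finBasis k W
  have ha : 0 < a := hca ▸ Module.finrank_pos
  have hb : 0 < b := hcb ▸ Module.finrank_pos
  let f : Fin (Module.finrank k W) → segre k a b := fun l =>
    ∑ p : Fin a × Fin b, bW.repr (β (bU p.1) (bV p.2)) l • gen' k a b p
  have hft : Algebra.FiniteType k (segre k a b) :=
    (Subalgebra.fg_iff_finiteType _).1 (Subalgebra.fg_def.2 ⟨_, Set.finite_range _, rfl⟩)
  haveI : IsJacobsonRing (segre k a b) := isJacobsonRing_of_finiteType (A := k)
  haveI : IsNoetherianRing (segre k a b) := Algebra.FiniteType.isNoetherianRing k _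
  set m := chainPrime k a b (a + b - 1) with hm
  have hmax : ∀ M : Ideal (segre k a b), M.IsMaximal → Ideal.span (Set.range f) ≤ M → M = m.asIdeal := by
    intro M hM hle
    haveI := hM
    letI := Ideal.Quotient.field M
    haveI : Module.Finite k (segre k a b ⧸ M) := finite_of_finite_type_of_isJacobsonRing k _
    have hbij := IsAlgClosed.algebraMap_bijective_of_isIntegral (k := k) (K := segre k a b ⧸ M)
    let e : k ≃ₐ[k] segre k a b ⧸ M := AlgEquiv.ofBijective (Algebra.ofId k _) hbij
    let φ : segre k a b →ₐ[k] k := e.symm.toAlgHom.comp (Ideal.Quotient.mkₐ k M)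
    have hker : M = RingHom.ker φ.toRingHom := by
      ext x
      show x ∈ M ↔ e.symm (Ideal.Quotient.mk M x) = 0
      rw [map_eq_zero_iff _ e.symm.injective, Ideal.Quotient.eq_zero_iff_mem]
    refine top_eq_of_forall_gen k a b ha hb φ hker fun pq => ?_
    by_contra hpq
    let u : U := ∑ i, φ (gen' k a b (i, pq.2)) • bU i
    let v : V := ∑ j, φ (gen' k a b (pq.1, j)) • bV j
    have hrel : ∀ i j, φ (gen' k a b (i, pq.2)) * φ (gen' k a b (pq.1, j)) =
        φ (gen' k a b (i, j)) * φ (gen' k a b pq) := fun i j => by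
      rw [← map_mul, ← map_mul]
      congr 1
      apply Subtype.ext
      show gen k a b (i, pq.2) * gen k a b (pq.1, j) = gen k a b (i, j) * gen k a b pq
      simp only [gen]
      ring
    have hu : u ≠ 0 := fun h0 => hpq (by
      have := congrArg (fun x => bU.repr x pq.1) h0
      simpa [u, map_sum, Finsupp.single_apply] using this)
    have hv : v ≠ 0 := fun h0 => hpq (by
      have := congrArg (fun x => bV.repr x pq.2) h0
      simpa [v, map_sum, Finsupp.single_apply] using this)
    refine h u v hu hv (bW.repr.injective (Finsupp.ext fun l => ?_))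
    have hl : φ (f l) = 0 := by
      have := hle (Ideal.subset_span ⟨l, rfl⟩)
      rwa [hker] at this
    calc bW.repr (β u v) l = φ (gen' k a b pq) * φ (f l) := by
          simp only [f, u, v, map_sum, map_smul, LinearMap.sum_apply, LinearMap.smul_apply, Finsupp.coe_finset_sum,
            Finset.sum_apply, Finsupp.smul_apply, smul_eq_mul, Fintype.sum_prod_type, Finset.mul_sum]
          rw [Finset.sum_comm]
          refine Finset.sum_congr rfl fun i _ => Finset.sum_congr rfl fun j _ => ?_
          linear_combination (bW.repr (β (bU i) (bV j)) l) * hrel i j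
      _ = bW.repr 0 l := by rw [hl, mul_zero, map_zero, Finsupp.zero_apply]
  have hmin : m.asIdeal ∈ (Ideal.span (Set.range f)).minimalPrimes := by
    refine ⟨⟨m.isPrime, Ideal.span_le.2 ?_⟩, fun P hP hPm => ?_⟩
    · rintro _ ⟨l, rfl⟩
      refine Ideal.sum_mem _ fun p _ => Submodule.smul_of_tower_mem _ _ ?_
      show killHom k a b (a + b - 1) (gen k a b p) = 0
      refine (killHom_gen k a b _ p).trans (if_pos (Or.inl ?_))
      have := p.1.2
      simp only [pos]; split_ifs <;> omega
    · have hj : P.jacobson = P := IsJacobsonRing.out inferInstance hP.1.isRadical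
      rw [← hj]
      refine le_sInf fun M hM => ?_
      rw [hmax M hM.2 (hP.2.trans hM.1)]
  have h1 := (le_height_top k a b ha hb).trans (Ideal.height_le_card_of_mem_minimalPrimes_span (Set.finite_range f) hmin)
  have h2 : (Set.range f).ncard ≤ Module.finrank k W :=
    (Nat.card_coe_set_eq (Set.range f)).symm.le.trans
      ((Finite.card_range_le f).trans (by simp))
  have h3 : a + b - 1 ≤ (Set.range f).ncard := by exact_mod_cast h1
  omega

end Groth.Agent.HopfBilin
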